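import Cfsg.Agent.H422.RatB.RowE7
import Cfsg.Agent.H498.RP.E7D6

/-!
# `E7(q)`, `p ∣ q ^ 2 + 1` : the row (B0-RAT T9, helper422)
-/

set_option autoImplicit false

namespace Cfsg.Agent.H422.RatB

open Cfsg CoxeterSystem Cfsg.Agent.H35.ExcIdx Cfsg.Agent.Nodes.LeviDec Cfsg.Lie
open Cfsg.Agent.H145.BR (RowZ)

universe u

/-- **The row of `E7(q)` for `p ∣ q ^ 2 + 1`.** -/
theorem rowZ_E7_four (K : Type u) [Field K] [Fintype K] {p : ℕ} [hp' : Fact p.Prime] (h2 : p ≠ 2)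
    (hd : p ∣ Fintype.card K ^ 2 + 1) : RowZ p ↥(chevE7.group K) := by
  have : Fintype ↥(PJ CoxeterMatrix.E₇.toCoxeterSystem hpE7.isCartan (TT chevE7 K) (XX chevE7 7 K) {j | j ≠ 0}) :=
    Fintype.ofFinite _
  exact rowZ_E7_of_int K h2 hd fun χ hχ h0 g => H498.RP.int_E7_D6 K hχ h0 g

end Cfsg.Agent.H422.RatB
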