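import Cfsg.Agent.H422.RatB.Fix
import Cfsg.Agent.H422.RatB.Orb
import Cfsg.Agent.H422.RatB.Syl
import Cfsg.Agent.H554.RG

/-!
# Counting with non-real elements (helper422)

`R` a root group datum, `J₀ ⊆ J`, `P` a Sylow `p`-subgroup in the semisimple part of `L_{J₀}`, `p` does not divide the
orders of `P_K`, `K < J₀`; `w₀ = -1`.

* `fix_gen` : an element of order `p` of `P_{J₀}` fixing `g P_f`;
* `exists_levi` : if `c` centralizes `x` and maps `P_J` to the opposite parabolic subgroup, `x` is conjugate to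
  `n₀⁻¹ x n₀` in `L_{J₀}`;
* `cnt_le` : the number of `C_G(P)`-orbits on the fixed points of `P` on `G / P_J`;
* `cnt_ne_of_noconj` : if `x` is not conjugate to `n₀⁻¹ x n₀` in `L_{J₀}`, the number of orbits is not `1` modulo `p`.
-/

set_option autoImplicit false
set_option linter.unusedSectionVars false

namespace Cfsg.Agent.H422.RatB

open CoxeterSystem Cfsg.Agent.ChevalleyStructure.CoxeterGeom Cfsg.Agent.Tits.Roots Cfsg.Agent.Tits.Core
  Cfsg.Agent.Tits.RootComb Cfsg.Agent.Tits.Exchange Cfsg.Agent.Nodes.Comb Cfsg.Agent.Nodes.Reps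
  Cfsg.Agent.Nodes.BNOf Cfsg.Agent.Nodes.StabComb Cfsg.Agent.Nodes.Bruhat Cfsg.Agent.Nodes.OppDec
  Cfsg.Agent.Nodes.LeviDec Cfsg.Agent.Nodes.NormX Cfsg.Agent.KFacts.RgdPar

variable {I W Y : Type*} [Fintype I] [DecidableEq I] [Group W] [Group Y] {M : CoxeterMatrix I}
  {cs : CoxeterSystem M W} {A : I → I → ℤ} {h : IsCartan M A} {r : ℕ} {T : Subgroup Y} {n : I → Y}
  {X : (I → ℤ) → Subgroup Y}

/-- A functional is dominant on `J` after applying an element of `W_J`. -/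
theorem exists_dom_fun [Finite W] {v : I → ℤ} (hv : ∀ i, 0 < pairing A i v) (J : Set I) (g : (I → ℤ) →+ ℤ) :
    ∃ w ∈ WJ cs J, ∀ i ∈ J, 0 ≤ g (rep cs h w (sr i)) := by
  obtain ⟨⟨w, hw⟩, hmax⟩ := Finite.exists_max (fun w : WJ cs J => g (rep cs h (w : W) v))
  refine ⟨w, hw, fun i hi => ?_⟩
  have h1 := hmax ⟨w * cs.simple i, mul_mem hw (simple_mem_WJ cs hi)⟩
  have h1' : g (rep cs h (w * cs.simple i) v) ≤ g (rep cs h w v) := h1
  rw [rep_mul_apply, rep_simple_eq, map_sub, map_sub, map_zsmul, map_zsmul, smul_eq_mul] at h1'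
  have h2 := hv i
  nlinarith

/-- a functional vanishing on the simple roots of `J` vanishes on the roots of `J` -/
theorem fun_zero {J : Set I} {g : (I → ℤ) →+ ℤ} (hg : ∀ i ∈ J, g (sr i) = 0) {z : I → ℤ} (hz : ∀ k, k ∉ J → z k = 0) :
    g z = 0 := by
  rw [map_eq_sum]
  refine Finset.sum_eq_zero fun k _ => ?_
  by_cases hk : k ∈ J
  · rw [hg k hk, mul_zero]
  · rw [hz k hk, zero_mul]

variable (R : RGD cs h r T n X)

include R

/-- **Elements of order `p` of `P_{J₀}` fixing `g P_f`.** -/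
theorem fix_gen [Finite W] [Finite Y] (hG : GG cs h T X = ⊤) {v : I → ℤ} (hv : ∀ i, 0 < pairing A i v) {p : ℕ}
    {J0 : Set I} (hK : ∀ K : Set I, K ⊆ J0 → K ≠ J0 → ¬ p ∣ Nat.card (PJ cs h T X K))
    {f : (I → ℤ) →+ ℤ} (hf : ∀ i, 0 ≤ f (sr i)) {x : Y} (hx : x ∈ PJ cs h T X J0) (hxp : orderOf x = p) {g : Y}
    (hfix : g⁻¹ * x * g ∈ PS T X (Half cs h f)) :
    ∃ w : W, Cell R.nsys cs h X w g ∧ ∀ i ∈ J0, f (rep cs h w⁻¹ (sr i)) = 0 := by
  obtain ⟨w, hcell⟩ := (mem_GG R).1 (by rw [hG]; exact Subgroup.mem_top g)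
  refine ⟨w, hcell, ?_⟩
  obtain ⟨b₁, hb₁, k, hk, b₂, hb₂, e⟩ := hcell
  have hB : RGD.B cs h T X ≤ PS T X (Half cs h f) := by rw [PS_half_of_dom hf]; exact B_le_PJ
  -- the conjugate of `x` by `b₁`
  have hx1 : b₁⁻¹ * x * b₁ ∈ PJ cs h T X J0 :=
    mul_mem (mul_mem (inv_mem (B_le_PJ hb₁)) hx) (B_le_PJ hb₁)
  have hx2 : k⁻¹ * (b₁⁻¹ * x * b₁) * k ∈ PS T X (Half cs h f) := by
    have h1 : k⁻¹ * (b₁⁻¹ * x * b₁) * k = b₂ * (g⁻¹ * x * g) * b₂⁻¹ := by rw [e]; group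
    rw [h1]
    exact mul_mem (mul_mem (hB hb₂) hfix) (inv_mem (hB hb₂))
  obtain ⟨w', hw', hdom⟩ := exists_dom_fun (cs := cs) (h := h) hv J0 (pull cs h f w⁻¹)
  obtain ⟨k', hk'⟩ := exists_rp cs R.nsys w'
  have hk'P : k' ∈ PJ cs h T X J0 := LJ_le_PJ (rp_mem_LJ R hw' hk')
  set x2 := k'⁻¹ * (b₁⁻¹ * x * b₁) * k' with hx2def
  have hx3 : x2 ∈ PJ cs h T X J0 := mul_mem (mul_mem (inv_mem hk'P) hx1) hk'P
  set g2 := pull cs h (pull cs h f w⁻¹) w' with hg2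
  have hg2' : ∀ z, g2 z = f (rep cs h w⁻¹ (rep cs h w' z)) := fun z => rfl
  have hx4 : x2 ∈ PS T X (Half cs h g2) := by
    have h1 : b₁⁻¹ * x * b₁ ∈ cj k (PS T X (Half cs h f)) := by rw [mem_cj]; exact hx2
    rw [cj_PS R hk (fun z hz => hz.1)] at h1
    have h2 : x2 ∈ cj k'⁻¹ (PS T X {z | rep cs h w⁻¹ z ∈ Half cs h f}) := by
      have := (conj_mem_cj (g := k'⁻¹) (A := PS T X {z | rep cs h w⁻¹ z ∈ Half cs h f})).2 h1
      rwa [inv_inv] at this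
    rw [cj_PS R hk'.inv (fun z hz => by
      have h3 : IsRoot cs h (rep cs h w⁻¹ z) := hz.1
      have := h3.act w
      rwa [rep_apply_inv] at this)] at h2
    refine PS_mono (fun z hz => ?_) h2
    have hz' : rep cs h w⁻¹ (rep cs h w'⁻¹⁻¹ z) ∈ Half cs h f := hz
    rw [inv_inv] at hz'
    refine ⟨?_, hz'.2⟩
    have h3 := (hz'.1.act w).act w'⁻¹
    rwa [rep_apply_inv, rep_inv_apply] at h3
  have hx6 : x2 ∈ PS T X (Half cs h (fnJ J0)) := by
    rw [PS_half_of_dom (fnJ_nonneg J0), fnJ_zero]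
    exact hx3
  obtain ⟨h7, -⟩ := inter R [fnJ J0, g2] (g := x2) (by rw [hG]; exact Subgroup.mem_top _) (by
    intro f' hf'
    rcases List.mem_cons.1 hf' with rfl | hf'
    · exact hx6
    · rw [List.mem_singleton] at hf'
      subst hf'
      exact hx4)
  obtain ⟨N, hN0, hN⟩ := exists_bound (cs := cs) (h := h) g2
  let l : (I → ℤ) →+ ℤ := N.toNat • fnJ J0 + g2
  have hl : ∀ z, l z = N * fnJ J0 z + g2 z := by
    intro z
    show (N.toNat • fnJ J0) z + g2 z = _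
    rw [AddMonoidHom.nsmul_apply, ← natCast_zsmul, Int.toNat_of_nonneg hN0.le]
    rfl
  have hlpos : ∀ i, 0 ≤ l (sr i) := by
    intro i
    rw [hl]
    by_cases hi : i ∈ J0
    · rw [fnJ_sr_mem hi]
      have := hdom i hi
      have h8 : g2 (sr i) = f (rep cs h w⁻¹ (rep cs h w' (sr i))) := rfl
      have h9 : pull cs h f w⁻¹ (rep cs h w' (sr i)) = f (rep cs h w⁻¹ (rep cs h w' (sr i))) := rfl
      rw [h9] at this
      rw [h8]
      omega
    · rw [fnJ_sr_not hi]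
      have := abs_lt.1 (hN _ (isRoot_sr cs h i))
      omega
  have h8 : x2 ∈ PJ cs h T X {i | l (sr i) = 0} := by
    rw [← PS_half_of_dom hlpos]
    refine PS_mono ?_ h7
    rintro z ⟨hz, hz'⟩
    refine ⟨hz, ?_⟩
    have h9 := hz' (fnJ J0) (by simp)
    have h10 := hz' g2 (by simp)
    rw [hl]
    have := mul_nonneg hN0.le h9
    omega
  have hsub : {i | l (sr i) = 0} ⊆ J0 := by
    intro i hi
    by_contra hi'
    have hi2 : l (sr i) = 0 := hi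
    rw [hl, fnJ_sr_not hi'] at hi2
    have := abs_lt.1 (hN _ (isRoot_sr cs h i))
    omega
  have hord : orderOf x2 = p := by
    have h9 : x2 = (k'⁻¹ * b₁⁻¹) * x * (k'⁻¹ * b₁⁻¹)⁻¹ := by rw [hx2def]; group
    rw [h9, ← hxp]
    exact orderOf_injective (MulAut.conj (k'⁻¹ * b₁⁻¹)).toMonoidHom (MulAut.conj _).injective x
  have hJ : {i | l (sr i) = 0} = J0 := by
    by_contra hne
    apply hK _ hsub hne
    rw [← hord]
    exact Subgroup.orderOf_dvd_natCard _ h8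
  have hzero : ∀ i ∈ J0, g2 (sr i) = 0 := by
    intro i hi
    have h9 : l (sr i) = 0 := by
      have : i ∈ {i | l (sr i) = 0} := by rw [hJ]; exact hi
      exact this
    rw [hl, fnJ_sr_mem hi] at h9
    omega
  intro i hi
  -- `α_i = w' z`
  have h9 := RootsJ.act (cs := cs) (h := h) (inv_mem hw') (PosJ_subset J0 (sr_mem_PosJ (cs := cs) (h := h) hi))
  have h10 : g2 (rep cs h w'⁻¹ (sr i)) = 0 := fun_zero hzero h9.2
  rw [hg2', rep_apply_inv] at h10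
  exact h10

/-- `L_{J₀}` is in `w P_f w⁻¹` if `f w⁻¹` vanishes on `J₀` -/
theorem LJ_le_cj {J0 : Set I} {f : (I → ℤ) →+ ℤ} {w : W} {k : Y} (hk : Rp cs R.nsys w k)
    (hw : ∀ i ∈ J0, f (rep cs h w⁻¹ (sr i)) = 0) : LJ cs h T X J0 ≤ cj k (PS T X (Half cs h f)) := by
  rw [cj_PS R hk (fun z hz => hz.1)]
  refine sup_le T_le_PS ((RGD.Sup_mono fun z hz => ?_).trans Sup_le_PS)
  refine ⟨hz.1.act _, ?_⟩
  have h1 := fun_zero (g := pull cs h f w⁻¹) hw hz.2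
  have h2 : f (rep cs h w⁻¹ z) = 0 := h1
  rw [h2]

/-- **The reduction to the Levi subgroup of `J₀`.** -/
theorem exists_levi [Finite W] [Finite Y] (hG : GG cs h T X = ⊤) {v : I → ℤ} (hv : ∀ i, 0 < pairing A i v) {p : ℕ}
    {J J0 : Set I} (hJ0 : J0 ⊆ J) (hK : ∀ K : Set I, K ⊆ J0 → K ≠ J0 → ¬ p ∣ Nat.card (PJ cs h T X K))
    (hst : ∀ w ∈ WJ cs J, (∀ i ∈ J0, fnJ J0 (rep cs h w⁻¹ (sr i)) = 0) → w ∈ WJ cs J0)
    {x : Y} (hx : x ∈ LJ cs h T X J0) (hxp : orderOf x = p) {w0 : W} {n0 : Y} (hn0 : Rp cs R.nsys w0 n0)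
    (hw0 : ∀ z, rep cs h w0 z = -z) {c : Y} (hc : c * x = x * c) (hcJ : n0⁻¹ * c ∈ PJ cs h T X J) :
    ∃ l ∈ LJ cs h T X J0, l * x * l⁻¹ = n0⁻¹ * x * n0 := by
  set g := n0⁻¹ * c with hg
  set x' := n0⁻¹ * x * n0 with hx'
  have hgx : g * x * g⁻¹ = x' := by
    have h1 : c * x * c⁻¹ = x := by rw [hc]; group
    calc g * x * g⁻¹ = n0⁻¹ * (c * x * c⁻¹) * n0 := by rw [hg]; group
      _ = x' := by rw [h1]
  have hw0' : ∀ z, rep cs h w0⁻¹ z = -z := by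
    intro z
    have h1 := rep_inv_apply cs h w0 (-z)
    rw [hw0, neg_neg] at h1
    exact h1
  have hx'L : x' ∈ LJ cs h T X J0 := by
    have h1 : x' ∈ cj n0⁻¹ (LJ cs h T X J0) := by
      have := (conj_mem_cj (g := n0⁻¹) (A := LJ cs h T X J0)).2 hx
      rwa [inv_inv] at this
    have h2 : cj n0⁻¹ (LJ cs h T X J0) ≤ LJ cs h T X J0 := by
      unfold LJ
      rw [cj_sup, cj_T R hn0.inv]
      refine sup_le_sup_left (cj_Sup_le R hn0.inv (fun z hz => hz.1) fun z hz => ?_) _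
      rw [hw0']
      exact RootsJ.neg hz
    exact h2 h1
  have hx'p : orderOf x' = p := by
    have h9 : x' = n0⁻¹ * x * (n0⁻¹)⁻¹ := by rw [hx', inv_inv]
    rw [h9, ← hxp]
    exact orderOf_injective (MulAut.conj n0⁻¹).toMonoidHom (MulAut.conj _).injective x
  -- `g` is in `P_{J₀}`
  have hgP : g ∈ PJ cs h T X J0 := by
    obtain ⟨w, hcell, hw⟩ := fix_gen R hG hv hK (f := fnJ J0) (fnJ_nonneg J0) (LJ_le_PJ hx'L) hx'p (g := g) (by
      rw [PS_half_of_dom (fnJ_nonneg J0), fnJ_zero]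
      have h1 : g⁻¹ * x' * g = x := by rw [← hgx]; group
      rw [h1]
      exact LJ_le_PJ hx)
    exact (cell_mem_PJ_iff R hcell).2 (hst w ((cell_mem_PJ_iff R hcell).1 hcJ) hw)
  obtain ⟨l, hl, u, hu, e⟩ := (mem_PJ R).1 hgP
  refine ⟨l, hl, ?_⟩
  -- `u x u⁻¹ x⁻¹` is in `L ∩ V`
  have h1 : u * x * u⁻¹ * x⁻¹ = 1 := by
    refine eq_one_of_mem_LJ_of_mem_VJ R (T := T) (J := J0) ?_ ?_
    · have h2 : u * x * u⁻¹ * x⁻¹ = l⁻¹ * x' * l * x⁻¹ := by rw [← hgx, e]; group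
      rw [h2]
      exact mul_mem (mul_mem (mul_mem (inv_mem hl) hx'L) hl) (inv_mem hx)
    · have h2 : u * x * u⁻¹ * x⁻¹ = u * (x * u⁻¹ * x⁻¹) := by group
      rw [h2]
      exact mul_mem hu ((Subgroup.mem_normalizer_iff.1 (LJ_le_normalizer_VJ R J0 hx) _).1 (inv_mem hu))
  have h2 : u * x * u⁻¹ = x := by rwa [mul_inv_eq_one] at h1
  rw [← hgx, e]
  calc l * x * l⁻¹ = l * (u * x * u⁻¹) * l⁻¹ := by rw [h2]
    _ = _ := by group

end Cfsg.Agent.H422.RatB
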