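import Cfsg.Agent.H422.RatB.Gen

/-!
# Counting with non-real elements, the count (helper422)

* `cnt_le` : a bound for the number of `C_G(P)`-orbits on the fixed points of `P` on `G / P_J`;
* `cnt_ne_of_noconj` : if `x` is not conjugate to `n₀⁻¹ x n₀` in `L_{J₀}`, the number of orbits is not `1` modulo `p`.
-/

set_option autoImplicit false
set_option linter.unusedSectionVars false

namespace Cfsg.Agent.H422.RatB

open CoxeterSystem Cfsg.Agent.ChevalleyStructure.CoxeterGeom Cfsg.Agent.Tits.Roots Cfsg.Agent.Tits.Core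
  Cfsg.Agent.Tits.RootComb Cfsg.Agent.Tits.Exchange Cfsg.Agent.Nodes.Comb Cfsg.Agent.Nodes.Reps
  Cfsg.Agent.Nodes.BNOf Cfsg.Agent.Nodes.StabComb Cfsg.Agent.Nodes.Bruhat Cfsg.Agent.Nodes.OppDec
  Cfsg.Agent.Nodes.LeviDec Cfsg.Agent.Nodes.NormX Cfsg.Agent.KFacts.RgdPar MulAction

/-- coprime action: two fixed points of `P` in a `V`-orbit are conjugate under the centralizer of `P` -/
theorem exists_cent_smul {G X : Type*} [Group G] [Finite G] [MulAction G X] {p : ℕ} [Fact p.Prime] (P : Sylow p G)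
    {V : Subgroup G} (hPV : (P : Subgroup G) ≤ Subgroup.normalizer (V : Set G)) (hdis : V ⊓ (P : Subgroup G) = ⊥)
    {y : X} (hy : ∀ a ∈ (P : Subgroup G), a • y = y) {v : G} (hv : v ∈ V)
    (hvy : ∀ a ∈ (P : Subgroup G), a • (v • y) = v • y) :
    ∃ c ∈ Subgroup.centralizer ((P : Subgroup G) : Set G), c • y = v • y := by
  obtain ⟨s, hs, hn⟩ := exists_mem_normalizer P (S := (V ⊔ (P : Subgroup G)) ⊓ stabilizer G y) (g := v)
    (fun a ha => Subgroup.mem_inf.2 ⟨Subgroup.mem_sup_right ha, hy a ha⟩) (fun a ha => by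
      refine Subgroup.mem_inf.2 ⟨mul_mem (mul_mem (inv_mem (Subgroup.mem_sup_left hv)) (Subgroup.mem_sup_right ha))
        (Subgroup.mem_sup_left hv), ?_⟩
      show (v⁻¹ * a * v) • y = y
      rw [mul_smul, mul_smul, hvy a ha, inv_smul_smul])
  have h1 : s ∈ ((V ⊔ (P : Subgroup G) : Subgroup G) : Set G) := hs.1
  rw [Subgroup.coe_mul_of_right_le_normalizer_left _ _ hPV, Set.mem_mul] at h1
  obtain ⟨v1, hv1, z, hz, e⟩ := h1
  have hsy : s • y = y := hs.2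
  have hv1y : v1 • y = y := by
    have h2 : v1 = s * z⁻¹ := by rw [← e]; group
    rw [h2, mul_smul]
    have h3 : z⁻¹ • y = y := by rw [inv_smul_eq_iff]; exact (hy z hz).symm
    rw [h3, hsy]
  have hN : v * v1 ∈ Subgroup.normalizer ((P : Subgroup G) : Set G) := by
    have h2 : v * v1 = v * s * z⁻¹ := by rw [← e]; group
    rw [h2]
    exact mul_mem hn (inv_mem (Subgroup.le_normalizer hz))
  refine ⟨v * v1, ?_, by rw [mul_smul, hv1y]⟩
  rw [Subgroup.mem_centralizer_iff]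
  intro a ha
  have h2 : (v * v1) * a * (v * v1)⁻¹ * a⁻¹ ∈ V ⊓ (P : Subgroup G) := by
    refine Subgroup.mem_inf.2 ⟨?_, mul_mem ((Subgroup.mem_normalizer_iff.1 hN a).1 ha) (inv_mem ha)⟩
    have h3 : (v * v1) * a * (v * v1)⁻¹ * a⁻¹ = (v * v1) * (a * (v * v1)⁻¹ * a⁻¹) := by group
    rw [h3]
    exact mul_mem (mul_mem hv hv1) ((Subgroup.mem_normalizer_iff.1 (hPV ha) _).1 (inv_mem (mul_mem hv hv1)))
  rw [hdis, Subgroup.mem_bot, mul_inv_eq_one, mul_inv_eq_iff_eq_mul] at h2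
  exact h2.symm

variable {I W Y : Type*} [Fintype I] [DecidableEq I] [Group W] [Group Y] {M : CoxeterMatrix I}
  {cs : CoxeterSystem M W} {A : I → I → ℤ} {h : IsCartan M A} {r : ℕ} {T : Subgroup Y} {n : I → Y}
  {X : (I → ℤ) → Subgroup Y}

variable (R : RGD cs h r T n X)

include R

/-- the fixed points of `P` -/
theorem exists_pt [Finite W] [Finite Y] (hG : GG cs h T X = ⊤) {v : I → ℤ} (hv : ∀ i, 0 < pairing A i v) {p : ℕ}
    [Fact p.Prime] {J J0 : Set I} (hK : ∀ K : Set I, K ⊆ J0 → K ≠ J0 → ¬ p ∣ Nat.card (PJ cs h T X K))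
    (P : Sylow p Y) (hP : (P : Subgroup Y) ≤ LJ cs h T X J0) {x : Y} (hx : x ∈ (P : Subgroup Y))
    (hxp : orderOf x = p) {y : Y ⧸ PJ cs h T X J} (hy : ∀ a ∈ (P : Subgroup Y), a • y = y) :
    ∃ w : W, (∀ i ∈ J0, fnJ J (rep cs h w⁻¹ (sr i)) = 0) ∧ ∀ k, Rp cs R.nsys w k →
      ∃ c ∈ Subgroup.centralizer ((P : Subgroup Y) : Set Y), c • ((k : Y) : Y ⧸ PJ cs h T X J) = y := by
  induction y using QuotientGroup.induction_on with
  | H g =>
    have hPS : PS T X (Half cs h (fnJ J)) = PJ cs h T X J := by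
      rw [PS_half_of_dom (fnJ_nonneg J), fnJ_zero]
    obtain ⟨w, ⟨b₁, hb₁, k1, hk1, b₂, hb₂, e⟩, hw⟩ := fix_gen R hG hv hK (f := fnJ J) (fnJ_nonneg J)
      (LJ_le_PJ (hP hx)) hxp (g := g) (by
        rw [hPS]
        have h1 := hy x hx
        have h2 : ((x * g : Y) : Y ⧸ PJ cs h T X J) = (g : Y ⧸ PJ cs h T X J) := h1
        rw [eq_comm, QuotientGroup.eq] at h2
        rwa [← mul_assoc] at h2)
    refine ⟨w, hw, fun k hk => ?_⟩
    -- the point of `k`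
    have hLk : ∀ l ∈ LJ cs h T X J0, l • ((k : Y) : Y ⧸ PJ cs h T X J) = (k : Y ⧸ PJ cs h T X J) := by
      intro l hl
      have h1 := LJ_le_cj R (f := fnJ J) hk hw hl
      rw [hPS, mem_cj] at h1
      show ((l * k : Y) : Y ⧸ PJ cs h T X J) = (k : Y ⧸ PJ cs h T X J)
      rw [eq_comm, QuotientGroup.eq, ← mul_assoc]
      exact h1
    have hkk : ((k1 : Y) : Y ⧸ PJ cs h T X J) = (k : Y ⧸ PJ cs h T X J) := by
      rw [QuotientGroup.eq]
      have h1 : k1⁻¹ * k ∈ T := by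
        have h2 := hk1.inv.mul hk
        rw [inv_mul_cancel] at h2
        exact h2.mem_of_one
      exact LJ_le_PJ (T_le_LJ h1)
    have hgk : ((g : Y) : Y ⧸ PJ cs h T X J) = b₁ • (k : Y ⧸ PJ cs h T X J) := by
      rw [← hkk]
      show ((g : Y) : Y ⧸ PJ cs h T X J) = ((b₁ * k1 : Y) : Y ⧸ PJ cs h T X J)
      rw [eq_comm, QuotientGroup.eq, e]
      have h1 : (b₁ * k1)⁻¹ * (b₁ * k1 * b₂) = b₂ := by group
      rw [h1]
      exact B_le_PJ hb₂
    obtain ⟨l, hl, u, hu, e'⟩ := (mem_PJ R).1 (B_le_PJ (J := J0) hb₁)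
    have hu' : l * u * l⁻¹ ∈ VJ cs h X J0 := (Subgroup.mem_normalizer_iff.1 (LJ_le_normalizer_VJ R J0 hl) u).1 hu
    have hgk' : ((g : Y) : Y ⧸ PJ cs h T X J) = (l * u * l⁻¹) • (k : Y ⧸ PJ cs h T X J) := by
      rw [hgk, e']
      have h1 : l * u = (l * u * l⁻¹) * l := by group
      conv_lhs => rw [h1, mul_smul, hLk l hl]
    rw [hgk'] at hy ⊢
    refine exists_cent_smul P (V := VJ cs h X J0) (hP.trans (LJ_le_normalizer_VJ R J0)) ?_
      (fun a ha => hLk a (hP ha)) hu' hy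
    rw [eq_bot_iff]
    rintro z ⟨hz1, hz2⟩
    exact Subgroup.mem_bot.2 (eq_one_of_mem_LJ_of_mem_VJ R (T := T) (hP hz2) hz1)

/-- two representatives with the same functional -/
theorem pt_eq [Finite W] [Finite Y] [Fact r.Prime] (hG : GG cs h T X = ⊤) {J : Set I} {w w' : W} {k k' : Y}
    (hk : Rp cs R.nsys w k) (hk' : Rp cs R.nsys w' k')
    (he : ∀ i, fnJ J (rep cs h w⁻¹ (sr i)) = fnJ J (rep cs h w'⁻¹ (sr i))) :
    ((k : Y) : Y ⧸ PJ cs h T X J) = (k' : Y ⧸ PJ cs h T X J) := by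
  have hPS : PS T X (Half cs h (fnJ J)) = PJ cs h T X J := by
    rw [PS_half_of_dom (fnJ_nonneg J), fnJ_zero]
  have h1 : cj k (PJ cs h T X J) = cj k' (PJ cs h T X J) := by
    rw [← hPS, cj_PS R hk (fun z hz => hz.1), cj_PS R hk' (fun z hz => hz.1)]
    congr 1
    ext z
    have h2 : fnJ J (rep cs h w⁻¹ z) = fnJ J (rep cs h w'⁻¹ z) := by
      have e1 := map_eq_sum (pull cs h (fnJ J) w⁻¹) z
      have e2 := map_eq_sum (pull cs h (fnJ J) w'⁻¹) z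
      simp only [pull_apply] at e1 e2
      rw [e1, e2]
      exact Finset.sum_congr rfl fun i _ => by rw [he]
    constructor
    · rintro ⟨hz, hz'⟩
      refine ⟨?_, by rw [← h2]; exact hz'⟩
      have h3 := (hz.act w).act w'⁻¹
      rwa [rep_apply_inv] at h3
    · rintro ⟨hz, hz'⟩
      refine ⟨?_, by rw [h2]; exact hz'⟩
      have h3 := (hz.act w').act w⁻¹
      rwa [rep_apply_inv] at h3
  rw [QuotientGroup.eq]
  refine H554.RG.mem_of_B_le_conj R hG (P := PJ cs h T X J) B_le_PJ (g := k⁻¹ * k') ?_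
  have h2 : (PJ cs h T X J).map (MulAut.conj (k⁻¹ * k')).toMonoidHom = cj (k⁻¹ * k') (PJ cs h T X J) := rfl
  rw [h2, cj_mul, ← h1, cj_inv_cj]
  exact B_le_PJ

/-- **The number of orbits is small.** -/
theorem cnt_le [Finite W] [Finite Y] [Fact r.Prime] (hG : GG cs h T X = ⊤) {v : I → ℤ}
    (hv : ∀ i, 0 < pairing A i v) {p : ℕ}
    [Fact p.Prime] {J J0 : Set I} (hK : ∀ K : Set I, K ⊆ J0 → K ≠ J0 → ¬ p ∣ Nat.card (PJ cs h T X K))
    (P : Sylow p Y) (hP : (P : Subgroup Y) ≤ LJ cs h T X J0) {x : Y} (hx : x ∈ (P : Subgroup Y))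
    (hxp : orderOf x = p) {N : ℕ} (hN : ∀ z, IsRoot cs h z → |fnJ J z| ≤ N) :
    H145.BR.cnt (P : Subgroup Y) (Y ⧸ PJ cs h T X J) ≤ (2 * N + 1) ^ Nat.card {i // i ∉ J0} := by
  classical
  rw [cnt_eq]
  set C := Subgroup.centralizer ((P : Subgroup Y) : Set Y) with hC
  have h1 := fun y : {y : Y ⧸ PJ cs h T X J // ∀ a ∈ (P : Subgroup Y), a • y = y} =>
    exists_pt R hG hv hK P hP hx hxp y.2
  choose w hw hw' using h1
  have hbd : ∀ (w : W) (i : I), fnJ J (rep cs h w⁻¹ (sr i)) ∈ Finset.Icc (-(N : ℤ)) N := by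
    intro w i
    rw [Finset.mem_Icc]
    exact abs_le.1 (hN _ ((isRoot_sr cs h i).act w⁻¹))
  let φ : Quotient (orbSet (P : Subgroup Y) C (Y ⧸ PJ cs h T X J)) → ({i // i ∉ J0} → Finset.Icc (-(N : ℤ)) N) :=
    fun q i => ⟨fnJ J (rep cs h (w q.out)⁻¹ (sr i.1)), hbd _ _⟩
  have hφ : Function.Injective φ := by
    intro q q' hqq
    have h2 : ∀ i, fnJ J (rep cs h (w q.out)⁻¹ (sr i)) = fnJ J (rep cs h (w q'.out)⁻¹ (sr i)) := by
      intro i
      by_cases hi : i ∈ J0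
      · rw [hw q.out i hi, hw q'.out i hi]
      · exact congrArg Subtype.val (congrFun hqq ⟨i, hi⟩)
    obtain ⟨k, hk⟩ := exists_rp cs R.nsys (w q.out)
    obtain ⟨k', hk'⟩ := exists_rp cs R.nsys (w q'.out)
    have h3 := pt_eq R hG hk hk' h2
    obtain ⟨c, hc, e⟩ := hw' q.out k hk
    obtain ⟨c', hc', e'⟩ := hw' q'.out k' hk'
    rw [← Quotient.out_eq q, ← Quotient.out_eq q']
    refine Quotient.sound ⟨c' * c⁻¹, mul_mem hc' (inv_mem hc), ?_⟩
    rw [← e, ← e', mul_smul, inv_smul_smul, h3]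
  refine (Nat.card_le_card_of_injective φ hφ).trans ?_
  rw [Nat.card_fun]
  refine Nat.pow_le_pow_left ?_ _
  rw [Nat.card_eq_fintype_card, Fintype.card_coe, Int.card_Icc]
  omega

/-- **The count.** -/
theorem cnt_ne_of_noconj [Finite W] [Finite Y] [Fact r.Prime] (hG : GG cs h T X = ⊤) {v : I → ℤ}
    (hv : ∀ i, 0 < pairing A i v) {p : ℕ}
    [hp : Fact p.Prime] {J J0 : Set I} (hJ0 : J0 ⊆ J)
    (hK : ∀ K : Set I, K ⊆ J0 → K ≠ J0 → ¬ p ∣ Nat.card (PJ cs h T X K))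
    (hst : ∀ w ∈ WJ cs J, (∀ i ∈ J0, fnJ J0 (rep cs h w⁻¹ (sr i)) = 0) → w ∈ WJ cs J0)
    (P : Sylow p Y) (hP : (P : Subgroup Y) ≤ LJ cs h T X J0) {x : Y} (hx : x ∈ (P : Subgroup Y))
    (hxp : orderOf x = p) {N : ℕ} (hN : ∀ z, IsRoot cs h z → |fnJ J z| ≤ N)
    (hcard : (2 * N + 1) ^ Nat.card {i // i ∉ J0} ≤ p) {w0 : W} {n0 : Y} (hn0 : Rp cs R.nsys w0 n0)
    (hw0 : ∀ z, rep cs h w0 z = -z)
    (hnc : ∀ l ∈ LJ cs h T X J0, l * x * l⁻¹ ≠ n0⁻¹ * x * n0) :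
    ¬ H145.BR.cnt (P : Subgroup Y) (Y ⧸ PJ cs h T X J) ≡ 1 [MOD p] := by
  intro hmod
  have hle := (cnt_le R hG hv hK P hP hx hxp (J := J) hN).trans hcard
  have h1 : H145.BR.cnt (P : Subgroup Y) (Y ⧸ PJ cs h T X J) = 1 := by
    rcases Nat.eq_zero_or_pos (H145.BR.cnt (P : Subgroup Y) (Y ⧸ PJ cs h T X J)) with h0 | h0
    · rw [h0] at hmod
      exact absurd (Nat.dvd_one.1 ((Nat.modEq_zero_iff_dvd).1 hmod.symm)) hp.out.one_lt.ne'
    · have h2 := (Nat.modEq_iff_dvd' h0).1 hmod.symm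
      have h3 := Nat.eq_zero_of_dvd_of_lt h2 (by omega)
      omega
  have hPJ : (P : Subgroup Y) ≤ PJ cs h T X J := hP.trans ((LJ_mono hJ0).trans LJ_le_PJ)
  have hw0' : ∀ z, rep cs h w0⁻¹ z = -z := by
    intro z
    have h1 := rep_inv_apply cs h w0 (-z)
    rw [hw0, neg_neg] at h1
    exact h1
  rw [cnt_eq] at h1
  have h2 := (Nat.card_eq_one_iff_unique.1 h1).1
  let x0 : {y : Y ⧸ PJ cs h T X J // ∀ a ∈ (P : Subgroup Y), a • y = y} := ⟨((1 : Y) : Y ⧸ PJ cs h T X J), fun a ha => by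
    show ((a * 1 : Y) : Y ⧸ PJ cs h T X J) = ((1 : Y) : Y ⧸ PJ cs h T X J)
    rw [eq_comm, QuotientGroup.eq, inv_one, one_mul, mul_one]
    exact hPJ ha⟩
  let y0 : {y : Y ⧸ PJ cs h T X J // ∀ a ∈ (P : Subgroup Y), a • y = y} := ⟨(n0 : Y ⧸ PJ cs h T X J), fun a ha => by
    show ((a * n0 : Y) : Y ⧸ PJ cs h T X J) = (n0 : Y ⧸ PJ cs h T X J)
    rw [eq_comm, QuotientGroup.eq, ← mul_assoc]
    have h3 : n0⁻¹ * a * n0 ∈ cj n0⁻¹ (LJ cs h T X J0) := by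
      have := (conj_mem_cj (g := n0⁻¹) (A := LJ cs h T X J0)).2 (hP ha)
      rwa [inv_inv] at this
    have h4 : cj n0⁻¹ (LJ cs h T X J0) ≤ LJ cs h T X J0 := by
      unfold LJ
      rw [cj_sup, cj_T R hn0.inv]
      refine sup_le_sup_left (cj_Sup_le R hn0.inv (fun z hz => hz.1) fun z hz => ?_) _
      rw [hw0']
      exact RootsJ.neg hz
    exact ((LJ_mono hJ0).trans LJ_le_PJ) (h4 h3)⟩
  have h3 := Quotient.exact (h2.elim (Quotient.mk _ x0) (Quotient.mk _ y0))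
  obtain ⟨c, hc, e⟩ := h3
  have e' : ((c * 1 : Y) : Y ⧸ PJ cs h T X J) = (n0 : Y ⧸ PJ cs h T X J) := e
  rw [mul_one, eq_comm, QuotientGroup.eq] at e'
  obtain ⟨l, hl, h5⟩ := exists_levi R hG hv hJ0 hK hst (hP hx) hxp hn0 hw0
    ((Subgroup.mem_centralizer_iff.1 hc x hx).symm) e'
  exact hnc l hl h5

end Cfsg.Agent.H422.RatB
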